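import Groth.Agent.NonAbLib.TorsorSch
import Groth.Agent.SchTorsor.Basic
import Groth.Prelude.Def_NoriFGS

/-!
# Fibre products of torsors
-/

set_option autoImplicit false
set_option linter.style.haveILetI false

universe u

open CategoryTheory CategoryTheory.Limits MonoidalCategory CartesianMonoidalCategory MonObj GrpObj AlgebraicGeometry

namespace Groth.Agent.NoriLib80

theorem existsUnique_act {S : Scheme.{u}} {G X : Over S} [GrpObj G] {a : AlgGrp.Action G X}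
    (ha : NonAbH1.IsPseudoTorsorSch a) {U : Over S} (x y : U ⟶ X) : ∃! g : U ⟶ G, lift g y ≫ a.act = x :=
  let ⟨g, hg⟩ := SchTorsor.exists_div ha x y
  ⟨g, hg, fun _ h => SchTorsor.act_free ha (h.trans hg.symm)⟩

section Prod

variable {S : Scheme.{u}} {G G₁ G₂ Q T T₁ T₂ : Over S} [GrpObj G] [GrpObj G₁] [GrpObj G₂] [GrpObj Q]
  {φ₁ : G₁ ⟶ G} {φ₂ : G₂ ⟶ G} [IsMonHom φ₁] [IsMonHom φ₂] (π₁ : Q ⟶ G₁) (π₂ : Q ⟶ G₂) [IsMonHom π₁] [IsMonHom π₂]
  (b : AlgGrp.Action G T) (b₁ : AlgGrp.Action G₁ T₁) (b₂ : AlgGrp.Action G₂ T₂) (f₁ : T₁ ⟶ T) (f₂ : T₂ ⟶ T)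

variable {π₁ π₂ b b₁ b₂ f₁ f₂}

/-- Equivariance on points. -/
theorem equivariant_pt (h₁ : AlgGrp.Action.IsEquivariant b₁ (b.restrict φ₁) f₁) {U : Over S} (g : U ⟶ G₁)
    (x : U ⟶ T₁) : lift g x ≫ b₁.act ≫ f₁ = lift (g ≫ φ₁) (x ≫ f₁) ≫ b.act := by
  rw [h₁, AlgGrp.Action.restrict_act, lift_whiskerLeft_assoc, lift_whiskerRight_assoc]

variable (π₁ π₂) (w : π₁ ≫ φ₁ = π₂ ≫ φ₂) (h₁ : AlgGrp.Action.IsEquivariant b₁ (b.restrict φ₁) f₁)
  (h₂ : AlgGrp.Action.IsEquivariant b₂ (b.restrict φ₂) f₂)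

include w h₁ h₂ in
/-- The fibre product of two equivariant maps carries an action of the fibre product group. -/
theorem exists_prodAction :
    ∃ c : AlgGrp.Action Q (pullback f₁ f₂), ∀ (U : Over S) (g : U ⟶ Q) (x : U ⟶ pullback f₁ f₂),
      lift g x ≫ c.act ≫ pullback.fst f₁ f₂ = lift (g ≫ π₁) (x ≫ pullback.fst f₁ f₂) ≫ b₁.act ∧
      lift g x ≫ c.act ≫ pullback.snd f₁ f₂ = lift (g ≫ π₂) (x ≫ pullback.snd f₁ f₂) ≫ b₂.act := by
  let P : Over S := pullback f₁ f₂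
  have hc : (lift (fst Q P ≫ π₁) (snd Q P ≫ pullback.fst f₁ f₂) ≫ b₁.act) ≫ f₁ =
      (lift (fst Q P ≫ π₂) (snd Q P ≫ pullback.snd f₁ f₂) ≫ b₂.act) ≫ f₂ := by
    rw [Category.assoc, Category.assoc, equivariant_pt h₁, equivariant_pt h₂]
    simp only [Category.assoc, pullback.condition, w]
  let act : Q ⊗ P ⟶ P := pullback.lift _ _ hc
  have key : ∀ (U : Over S) (g : U ⟶ Q) (x : U ⟶ P),
      lift g x ≫ act ≫ pullback.fst f₁ f₂ = lift (g ≫ π₁) (x ≫ pullback.fst f₁ f₂) ≫ b₁.act ∧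
      lift g x ≫ act ≫ pullback.snd f₁ f₂ = lift (g ≫ π₂) (x ≫ pullback.snd f₁ f₂) ≫ b₂.act := fun U g x => by
    refine ⟨?_, ?_⟩
    · rw [pullback.lift_fst, ← Category.assoc, comp_lift, lift_fst_assoc, lift_snd_assoc]
    · rw [pullback.lift_snd, ← Category.assoc, comp_lift, lift_fst_assoc, lift_snd_assoc]
  refine ⟨⟨act, ?_, ?_⟩, key⟩
  · have he : (η[Q] ▷ P) = lift (1 : 𝟙_ (Over S) ⊗ P ⟶ Q) (snd _ _) := by
      apply CartesianMonoidalCategory.hom_ext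
      · rw [whiskerRight_fst, lift_fst, Hom.one_def, toUnit_unique (toUnit _) (fst _ _)]
      · simp
    rw [he, leftUnitor_hom]
    apply pullback.hom_ext
    · rw [Category.assoc, (key _ _ _).1, MonObj.one_comp, SchTorsor.one_act_pt]
    · rw [Category.assoc, (key _ _ _).2, MonObj.one_comp, SchTorsor.one_act_pt]
  · apply AlgGrp.Action.hom_ext_lift₃
    intro U g g' x
    rw [lift_whiskerRight_assoc, lift_lift_associator_hom_assoc, lift_whiskerLeft_assoc, ← Hom.mul_def]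
    apply pullback.hom_ext
    · rw [Category.assoc, Category.assoc, (key _ _ _).1, (key _ _ _).1, MonObj.mul_comp,
        AlgGrp.Action.lift_mul_act, Category.assoc, (key _ _ _).1]
    · rw [Category.assoc, Category.assoc, (key _ _ _).2, (key _ _ _).2, MonObj.mul_comp,
        AlgGrp.Action.lift_mul_act, Category.assoc, (key _ _ _).2]

variable {π₁ π₂} (hpb : IsPullback π₁ π₂ φ₁ φ₂)

include h₁ h₂ hpb in
/-- The fibre product of pseudo-torsors is a pseudo-torsor. -/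
theorem exists_prodAction_pseudo (hb : NonAbH1.IsPseudoTorsorSch b) (hb₁ : NonAbH1.IsPseudoTorsorSch b₁)
    (hb₂ : NonAbH1.IsPseudoTorsorSch b₂) :
    ∃ c : AlgGrp.Action Q (pullback f₁ f₂),
      AlgGrp.Action.IsEquivariant c (b₁.restrict π₁) (pullback.fst f₁ f₂) ∧
      AlgGrp.Action.IsEquivariant c (b₂.restrict π₂) (pullback.snd f₁ f₂) ∧ NonAbH1.IsPseudoTorsorSch c := by
  obtain ⟨c, key⟩ := exists_prodAction π₁ π₂ hpb.w h₁ h₂
  refine ⟨c, ?_, ?_, NonAbLib.isPseudoTorsor_of_points c fun U x y => ?_⟩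
  · refine Eq.trans ?_ ((congrArg (fun t => t ≫ (b₁.restrict π₁).act) (show
      lift (fst Q _) (snd Q _ ≫ pullback.fst f₁ f₂) = Q ◁ pullback.fst f₁ f₂ by
        apply CartesianMonoidalCategory.hom_ext <;> simp)))
    rw [AlgGrp.Action.restrict_act, lift_whiskerRight_assoc, ← (key _ (fst Q _) (snd Q _)).1, lift_fst_snd,
      Category.id_comp]
  · refine Eq.trans ?_ ((congrArg (fun t => t ≫ (b₂.restrict π₂).act) (show
      lift (fst Q _) (snd Q _ ≫ pullback.snd f₁ f₂) = Q ◁ pullback.snd f₁ f₂ by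
        apply CartesianMonoidalCategory.hom_ext <;> simp)))
    rw [AlgGrp.Action.restrict_act, lift_whiskerRight_assoc, ← (key _ (fst Q _) (snd Q _)).2, lift_fst_snd,
      Category.id_comp]
  · obtain ⟨g₁, hg₁, hu₁⟩ := existsUnique_act hb₁ (x ≫ pullback.fst f₁ f₂) (y ≫ pullback.fst f₁ f₂)
    obtain ⟨g₂, hg₂, hu₂⟩ := existsUnique_act hb₂ (x ≫ pullback.snd f₁ f₂) (y ≫ pullback.snd f₁ f₂)
    have e : g₁ ≫ φ₁ = g₂ ≫ φ₂ := by
      refine (existsUnique_act hb (x ≫ pullback.fst f₁ f₂ ≫ f₁) (y ≫ pullback.fst f₁ f₂ ≫ f₁)).unique ?_ ?_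
      · rw [← Category.assoc x, ← hg₁, Category.assoc, equivariant_pt h₁, Category.assoc]
      · rw [pullback.condition, ← Category.assoc x, ← hg₂, Category.assoc, equivariant_pt h₂, Category.assoc]
    refine ⟨hpb.lift g₁ g₂ e, ?_, fun g hg => ?_⟩
    · dsimp only
      apply pullback.hom_ext
      · rw [Category.assoc, (key _ _ _).1, IsPullback.lift_fst, hg₁]
      · rw [Category.assoc, (key _ _ _).2, IsPullback.lift_snd, hg₂]
    · dsimp only at hg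
      apply hpb.hom_ext
      · rw [IsPullback.lift_fst]
        refine hu₁ _ ?_
        show lift (g ≫ π₁) _ ≫ b₁.act = _
        rw [← (key _ _ _).1, ← Category.assoc, hg]
      · rw [IsPullback.lift_snd]
        refine hu₂ _ ?_
        show lift (g ≫ π₂) _ ≫ b₂.act = _
        rw [← (key _ _ _).2, ← Category.assoc, hg]

end Prod

variable {k : Type u} [Field k] {X : Scheme.{u}} [X.Over (Spec (CommRingCat.of k))]

/-- Morphisms of pointed torsors compose. -/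
theorem isPtTorsorHom_comp {H G G' : Over (Spec (CommRingCat.of k))} [GrpObj H] [GrpObj G] [GrpObj G'] {P T T' : Over X}
    {a : AlgGrp.Action (Red.bc (X ↘ Spec (CommRingCat.of k)) H) P} {p : Spec (CommRingCat.of k) ⟶ P.left}
    {b : AlgGrp.Action (Red.bc (X ↘ Spec (CommRingCat.of k)) G) T} {t : Spec (CommRingCat.of k) ⟶ T.left}
    {b' : AlgGrp.Action (Red.bc (X ↘ Spec (CommRingCat.of k)) G') T'} {t' : Spec (CommRingCat.of k) ⟶ T'.left}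
    {ψ : H ⟶ G} [IsMonHom ψ] {g : P ⟶ T} {φ : G ⟶ G'} [IsMonHom φ] {f : T ⟶ T'}
    (hg : NoriFGS.IsPtTorsorHom a p b t ψ g) (hf : NoriFGS.IsPtTorsorHom b t b' t' φ f) :
    NoriFGS.IsPtTorsorHom a p b' t' (ψ ≫ φ) (g ≫ f) := by
  refine ⟨?_, by rw [Over.comp_left, ← Category.assoc, hg.2, hf.2]⟩
  let s := X ↘ Spec (CommRingCat.of k)
  have h : a.act ≫ g ≫ f = lift (fst _ _ ≫ (Over.pullback s).map (ψ ≫ φ)) (snd _ _ ≫ g ≫ f) ≫ b'.act := by
    have e : a.act ≫ g = lift (fst _ _ ≫ (Over.pullback s).map ψ) (snd _ _ ≫ g) ≫ b.act := by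
      have := equivariant_pt (b := b) hg.1 (fst (Red.bc s H) P) (snd _ _)
      rwa [lift_fst_snd, Category.id_comp] at this
    rw [← Category.assoc a.act g f, e, Category.assoc, equivariant_pt hf.1]
    simp only [Functor.map_comp, Category.assoc]
    rfl
  show a.act ≫ g ≫ f = _
  rw [h, AlgGrp.Action.restrict_act, ← Category.assoc (_ ◁ _)]
  refine congrArg (· ≫ b'.act) ?_
  apply CartesianMonoidalCategory.hom_ext <;> simp [s]

/-- Fibre products of pointed torsors over a scheme with a fundamental group scheme. -/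
theorem exists_action_isTorsor_pullback (x : Spec (CommRingCat.of k) ⟶ X)
    (πN : Over (Spec (CommRingCat.of k))) [GrpObj πN] (P : Over X)
    (a : AlgGrp.Action (Red.bc (X ↘ Spec (CommRingCat.of k)) πN) P) (p : Spec (CommRingCat.of k) ⟶ P.left)
    (hP : NoriFGS.IsFGS x πN a p) (G G₁ G₂ : Over (Spec (CommRingCat.of k))) [GrpObj G] [GrpObj G₁] [GrpObj G₂]
    [IsFinite G.hom] [IsFinite G₁.hom] [IsFinite G₂.hom]
    (φ₁ : G₁ ⟶ G) (φ₂ : G₂ ⟶ G) [IsMonHom φ₁] [IsMonHom φ₂]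
    (T T₁ T₂ : Over X)
    (b : AlgGrp.Action (Red.bc (X ↘ Spec (CommRingCat.of k)) G) T)
    (b₁ : AlgGrp.Action (Red.bc (X ↘ Spec (CommRingCat.of k)) G₁) T₁)
    (b₂ : AlgGrp.Action (Red.bc (X ↘ Spec (CommRingCat.of k)) G₂) T₂)
    (hT : NonAbH1.IsTorsorFor Scheme.fpqcPrecoverage b)
    (hT₁ : NonAbH1.IsTorsorFor Scheme.fpqcPrecoverage b₁)
    (hT₂ : NonAbH1.IsTorsorFor Scheme.fpqcPrecoverage b₂)
    (t : Spec (CommRingCat.of k) ⟶ T.left) (t₁ : Spec (CommRingCat.of k) ⟶ T₁.left)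
    (t₂ : Spec (CommRingCat.of k) ⟶ T₂.left)
    (ht : t ≫ T.hom = x) (ht₁ : t₁ ≫ T₁.hom = x) (ht₂ : t₂ ≫ T₂.hom = x)
    (f₁ : T₁ ⟶ T) (f₂ : T₂ ⟶ T)
    (hf₁ : NoriFGS.IsPtTorsorHom b₁ t₁ b t φ₁ f₁) (hf₂ : NoriFGS.IsPtTorsorHom b₂ t₂ b t φ₂ f₂)
    (Q : Over (Spec (CommRingCat.of k))) [GrpObj Q] (π₁ : Q ⟶ G₁) (π₂ : Q ⟶ G₂) [IsMonHom π₁] [IsMonHom π₂]
    (hQ : IsPullback π₁ π₂ φ₁ φ₂) :
    ∃ c : AlgGrp.Action (Red.bc (X ↘ Spec (CommRingCat.of k)) Q) (pullback f₁ f₂),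
      AlgGrp.Action.IsEquivariant c (b₁.restrict ((Over.pullback (X ↘ Spec (CommRingCat.of k))).map π₁)) (pullback.fst f₁ f₂) ∧
      AlgGrp.Action.IsEquivariant c (b₂.restrict ((Over.pullback (X ↘ Spec (CommRingCat.of k))).map π₂)) (pullback.snd f₁ f₂) ∧
      NonAbH1.IsTorsorFor Scheme.fpqcPrecoverage c := by
  obtain ⟨c, hc₁, hc₂, hc⟩ := exists_prodAction_pseudo (b := b) (b₁ := b₁) (b₂ := b₂) hf₁.1 hf₂.1
    (hQ.map (Over.pullback (X ↘ Spec (CommRingCat.of k)))) hT.1 hT₁.1 hT₂.1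
  refine ⟨c, hc₁, hc₂, hc, ?_⟩
  obtain ⟨ψ₁, hψ₁, g₁, hg₁, -⟩ := hP.2.2.2 G₁ T₁ b₁ t₁ hT₁ ht₁
  obtain ⟨ψ₂, hψ₂, g₂, hg₂, -⟩ := hP.2.2.2 G₂ T₂ b₂ t₂ hT₂ ht₂
  obtain ⟨ψ, hψ, g, hg, huniq⟩ := hP.2.2.2 G T b t hT ht
  have e : g₁ ≫ f₁ = g₂ ≫ f₂ := by
    rw [(huniq (ψ₁ ≫ φ₁) (g₁ ≫ f₁) (isPtTorsorHom_comp hg₁ hf₁)).2,
      (huniq (ψ₂ ≫ φ₂) (g₂ ≫ f₂) (isPtTorsorHom_comp hg₂ hf₂)).2]
  obtain ⟨R, hR, hsec⟩ := hP.2.1.2
  refine ⟨R, hR, fun S' f hf => ?_⟩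
  obtain ⟨s, hs⟩ := hsec f hf
  exact ⟨s ≫ (pullback.lift g₁ g₂ e).left, by rw [Category.assoc, Over.w, hs]⟩

end Groth.Agent.NoriLib80
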